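import Cfsg.Agent.Lib.Helper95.BRA.Defs

/-!
# BRA (S4484): package [Pig] — pigeonhole with six sectors
-/

set_option autoImplicit false
open scoped Matrix ComplexConjugate

namespace Cfsg.Agent.Lib.Helper15.BRA

open Cfsg Cfsg.Agent.Lib.Helper74.Jordan Cfsg.Agent.Lib.Helper95.BRA

lemma rt_pow_eq_exp (p r : ℕ) :
    rt p ^ r = Complex.exp (((2 * Real.pi * r / p : ℝ) : ℂ) * Complex.I) := by
  unfold rt
  rw [← Complex.exp_nat_mul]
  congr 1
  push_cast
  ring

lemma rt_pow_mul_conj_re (p r1 r2 : ℕ) :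
    (rt p ^ r2 * conj (rt p ^ r1)).re
      = Real.cos (2 * Real.pi * r2 / p - 2 * Real.pi * r1 / p) := by
  rw [rt_pow_eq_exp, rt_pow_eq_exp, ← Complex.exp_conj, ← Complex.exp_add]
  have h : ((2 * Real.pi * r2 / p : ℝ) : ℂ) * Complex.I
        + conj (((2 * Real.pi * r1 / p : ℝ) : ℂ) * Complex.I)
      = ((2 * Real.pi * r2 / p - 2 * Real.pi * r1 / p : ℝ) : ℂ) * Complex.I := by
    rw [map_mul, Complex.conj_ofReal, Complex.conj_I]
    push_cast
    ring
  rw [h, Complex.exp_ofReal_mul_I_re]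

lemma rt_pow_mul_conj_self (p k : ℕ) : rt p ^ k * conj (rt p ^ k) = 1 := by
  rw [rt_pow_eq_exp, ← Complex.exp_conj, ← Complex.exp_add]
  have h : ((2 * Real.pi * k / p : ℝ) : ℂ) * Complex.I
        + conj (((2 * Real.pi * k / p : ℝ) : ℂ) * Complex.I) = 0 := by
    rw [map_mul, Complex.conj_ofReal, Complex.conj_I]
    ring
  rw [h, Complex.exp_zero]

lemma cos_gt_half_of_abs_lt {θ : ℝ} (h : |θ| < Real.pi / 3) : 1 / 2 < Real.cos θ := by
  rw [← Real.cos_abs, ← Real.cos_pi_div_three]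
  apply Real.strictAntiOn_cos
  · exact ⟨abs_nonneg _, by linarith [Real.pi_pos]⟩
  · exact ⟨by positivity, by linarith [Real.pi_pos]⟩
  · exact h

lemma div_eq_bound {a b p : ℕ} (hp : 0 < p) (h : a / p = b / p) : a < b + p ∧ b < a + p := by
  have a1 := Nat.div_add_mod a p
  have a2 := Nat.div_add_mod b p
  have b1 := Nat.mod_lt a hp
  have b2 := Nat.mod_lt b hp
  rw [h] at a1
  generalize p * (b / p) = M at a1 a2
  generalize a % p = x at a1 b1
  generalize b % p = y at a2 b2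
  omega

theorem pkgPig : PkgPig := by
  intro p I hI i₁ hi₁ hlt
  have hp1 : 1 ≤ 6 ^ (I.card - 1) := Nat.one_le_pow _ _ (by norm_num)
  have hp : 2 ≤ p := by omega
  have hp0 : p ≠ 0 := by omega
  have hζp : rt p ^ p = 1 := (rt_prim hp0).pow_eq_one
  let f : Fin p → (↥(I.erase i₁) → Fin 6) := fun d i =>
    ⟨6 * (((i.1 + p - i₁) * d.1) % p) / p, by
      rw [Nat.div_lt_iff_lt_mul (by omega)]
      have := Nat.mod_lt ((i.1 + p - i₁) * d.1) (show p > 0 by omega)
      omega⟩
  have hcard : Fintype.card (↥(I.erase i₁) → Fin 6) < Fintype.card (Fin p) := by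
    rw [Fintype.card_fun, Fintype.card_fin, Fintype.card_fin, Fintype.card_coe,
      Finset.card_erase_of_mem hi₁]
    exact hlt
  obtain ⟨x, y, hxy, hfxy⟩ := Fintype.exists_ne_map_eq_of_card_lt f hcard
  have key : ∀ d1 d2 : Fin p, d1.1 < d2.1 → f d1 = f d2 →
      ∃ d : ℕ, 0 < d ∧ d < p ∧
        ∀ i ∈ I, 1 / 2 < (rt p ^ (i * d) * conj (rt p ^ (i₁ * d))).re := by
    intro d1 d2 hlt12 hf
    refine ⟨d2.1 - d1.1, by omega, by have := d2.2; omega, ?_⟩
    intro i hi
    by_cases hii : i = i₁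
    · subst hii
      rw [rt_pow_mul_conj_self]; norm_num
    · have hmem : i ∈ I.erase i₁ := Finset.mem_erase.mpr ⟨hii, hi⟩
      have hfi := congrFun hf ⟨i, hmem⟩
      have hfi' : 6 * (((i + p - i₁) * d1.1) % p) / p = 6 * (((i + p - i₁) * d2.1) % p) / p :=
        congrArg Fin.val hfi
      have hi₁p := hI i₁ hi₁
      have hid : rt p ^ (i * (d2.1 - d1.1)) * conj (rt p ^ (i₁ * (d2.1 - d1.1)))
          = rt p ^ (((i + p - i₁) * d2.1) % p) * conj (rt p ^ (((i + p - i₁) * d1.1) % p)) := by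
        have h1 : rt p ^ ((i + p - i₁) * d1.1) = rt p ^ (((i + p - i₁) * d1.1) % p) :=
          pow_eq_pow_mod _ hζp
        have h2 : rt p ^ ((i + p - i₁) * d2.1) = rt p ^ (((i + p - i₁) * d2.1) % p) :=
          pow_eq_pow_mod _ hζp
        have h3 : rt p ^ ((i + p - i₁) * d2.1)
            = rt p ^ ((i + p - i₁) * d1.1) * rt p ^ ((i + p - i₁) * (d2.1 - d1.1)) := by
          rw [← pow_add, ← Nat.mul_add]; congr 2; omega
        have h4 : rt p ^ ((i + p - i₁) * (d2.1 - d1.1)) * rt p ^ (i₁ * (d2.1 - d1.1))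
            = rt p ^ (i * (d2.1 - d1.1)) := by
          rw [← pow_add, ← Nat.add_mul]
          have h5 : i + p - i₁ + i₁ = p + i := by omega
          rw [h5, Nat.add_mul, pow_add, pow_mul (rt p) p, hζp, one_pow, one_mul]
        rw [← h4, mul_assoc, rt_pow_mul_conj_self, mul_one, ← h2, ← h1, h3,
          mul_comm (rt p ^ ((i + p - i₁) * d1.1)), mul_assoc, rt_pow_mul_conj_self, mul_one]
      rw [hid, rt_pow_mul_conj_re]
      apply cos_gt_half_of_abs_lt
      obtain ⟨c1, c2⟩ := div_eq_bound (by omega : 0 < p) hfi'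
      set r1 := ((i + p - i₁) * d1.1) % p
      set r2 := ((i + p - i₁) * d2.1) % p
      have hpR : (0 : ℝ) < p := by exact_mod_cast (by omega : 0 < p)
      have c1' : (6 * (r1 : ℝ)) < 6 * r2 + p := by exact_mod_cast c1
      have c2' : (6 * (r2 : ℝ)) < 6 * r1 + p := by exact_mod_cast c2
      have e1 : 2 * Real.pi * r2 / p - 2 * Real.pi * r1 / p
          = (Real.pi / 3) * ((6 * r2 - 6 * r1) / p) := by
        field_simp
        ring
      have ht : |(6 * (r2 : ℝ) - 6 * r1) / p| < 1 := by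
        rw [abs_lt]
        constructor
        · rw [lt_div_iff₀ hpR]; linarith
        · rw [div_lt_one hpR]; linarith
      rw [e1, abs_mul, abs_of_pos (by positivity : (0 : ℝ) < Real.pi / 3)]
      calc Real.pi / 3 * |(6 * (r2 : ℝ) - 6 * r1) / p| < Real.pi / 3 * 1 :=
            mul_lt_mul_of_pos_left ht (by positivity)
        _ = Real.pi / 3 := mul_one _
  rcases lt_or_gt_of_ne (fun h => hxy (Fin.ext h) : x.1 ≠ y.1) with h | h
  · exact key x y h hfxy
  · exact key y x h hfxy.symm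

end Cfsg.Agent.Lib.Helper15.BRA
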